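import Cfsg.Agent.H289.D4T.Ccp

/-!
# `CCP` and groups acting on products (helper289, S4114)

`H` acts on `X ≅ ∏ Ω_s` (`s : ι`), `E s x y` : the components `s` of `x`, `y` are equal; `H` is transitive on the pairs
`(x, y)` with the same set of equal components, `|Ω_s| ≥ 3`; `θ : X ≃ X` is semilinear for `τ : MulAut H`, permutes the
components transitively; `K` a solvable normal `τ`-invariant subgroup acting nontrivially.
* `exists_fixed` : if `CCP τ` then `θ` has a fixed point.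
-/

set_option autoImplicit false
set_option linter.unusedSectionVars false

namespace Cfsg.Agent.H289.Ccp

open Subgroup Cfsg.Agent.H520 Cfsg.Agent.H289.D4T

open scoped commutatorElement

/-- the last term of the derived series acting nontrivially -/
theorem exists_V (H X : Type*) [Group H] [MulAction H X] [Finite H] {τ : MulAut H} {K : Subgroup H}
    (hKn : ∀ h : H, ∀ k ∈ K, h * k * h⁻¹ ∈ K) (hKτ : ∀ k ∈ K, τ k ∈ K) (hKs : Group.IsSolvable K)
    (hK1 : ∃ k ∈ K, ∃ x : X, k • x ≠ x) :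
    ∃ V : Subgroup H, (∀ h : H, ∀ v ∈ V, h * v * h⁻¹ ∈ V) ∧ (∀ v ∈ V, τ v ∈ V) ∧ (∃ v ∈ V, ∃ x : X, v • x ≠ x) ∧
      ∀ v ∈ V, ∀ w ∈ V, ∀ x : X, v • w • x = w • v • x := by
  induction hn : Nat.card K using Nat.strong_induction_on generalizing K with
  | _ n ih =>
    by_cases hc : ∃ k ∈ ⁅K, K⁆, ∃ x : X, k • x ≠ x
    · have hle : ⁅K, K⁆ ≤ K := Subgroup.commutator_le.2 fun a ha b hb => by
        rw [commutatorElement_def]
        exact mul_mem (mul_mem (mul_mem ha hb) (inv_mem ha)) (inv_mem hb)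
      have hne : Nontrivial K := by
        obtain ⟨k, hk, x, hx⟩ := hK1
        refine ⟨⟨⟨k, hk⟩, 1, fun h => hx ?_⟩⟩
        have : k = 1 := congrArg Subtype.val h
        rw [this, one_smul]
      have hlt : ⁅K, K⁆ < K := by
        refine lt_of_le_of_ne hle fun h => ?_
        have h1 := Group.IsSolvable.commutator_lt_top_of_nontrivial K
        have h2 : (commutator K).map K.subtype = ⁅K, K⁆ := by
          rw [commutator_def, Subgroup.map_commutator, ← MonoidHom.range_eq_map, Subgroup.range_subtype]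
        rw [h] at h2
        apply h1.ne
        apply Subgroup.map_injective K.subtype_injective
        rw [h2, ← MonoidHom.range_eq_map, Subgroup.range_subtype]
      have hsol : Group.IsSolvable ↥⁅K, K⁆ :=
        Group.isSolvable_of_isSolvable_injective (f := Subgroup.inclusion hle) (Subgroup.inclusion_injective hle)
      have hcn : ∀ h : H, ∀ k ∈ ⁅K, K⁆, h * k * h⁻¹ ∈ ⁅K, K⁆ := by
        have : K.Normal := ⟨fun k hk h => hKn h k hk⟩
        exact fun h k hk => (inferInstance : (⁅K, K⁆ : Subgroup H).Normal).conj_mem k hk h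
      have hcτ : ∀ k ∈ ⁅K, K⁆, τ k ∈ ⁅K, K⁆ := by
        have h1 : ⁅K, K⁆ ≤ (⁅K, K⁆).comap τ.toMonoidHom := by
          refine Subgroup.commutator_le.2 fun a ha b hb => ?_
          rw [Subgroup.mem_comap, map_commutatorElement]
          exact Subgroup.commutator_mem_commutator (hKτ a ha) (hKτ b hb)
        exact fun k hk => h1 hk
      exact ih _ (hn ▸ Set.ncard_lt_ncard (SetLike.coe_ssubset_coe.2 hlt) (Set.toFinite _)) hcn hcτ hsol hc rfl
    · push Not at hc
      refine ⟨K, hKn, hKτ, hK1, fun v hv w hw x => ?_⟩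
      have h1 : v * w = ⁅v, w⁆ * (w * v) := by rw [commutatorElement_def]; group
      rw [← mul_smul, h1, mul_smul, hc _ (Subgroup.commutator_mem_commutator hv hw), mul_smul]

/-- `H` acts on a product -/
structure PS (H X : Type*) [Group H] [MulAction H X] {ι : Type*} (E : ι → X → X → Prop) : Prop where
  refl : ∀ s x, E s x x
  symm : ∀ {s x y}, E s x y → E s y x
  trans : ∀ {s x y z}, E s x y → E s y z → E s x z
  eq : ∀ {x y}, (∀ s, E s x y) → x = y
  ex : ∀ x y s, ∃ z, E s z y ∧ ∀ t, t ≠ s → E t z x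
  act : ∀ {s x y} (h : H), E s x y → E s (h • x) (h • y)
  tr : ∀ {x y x' y'}, (∀ s, E s x y ↔ E s x' y') → ∃ h : H, h • x = x' ∧ h • y = y'
  thick : ∀ x s, ∃ y z, ¬ E s x y ∧ ¬ E s x z ∧ ¬ E s y z

variable {H X : Type*} [Group H] [MulAction H X] {ι : Type*} {E : ι → X → X → Prop}

namespace PS

variable (P : PS H X E)

include P

theorem act_iff {s : ι} {x y : X} (h : H) : E s (h • x) (h • y) ↔ E s x y := by
  refine ⟨fun h1 => ?_, P.act h⟩
  have := P.act h⁻¹ h1
  rwa [inv_smul_smul, inv_smul_smul] at this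

theorem congr_right {s : ι} {x y z : X} (h : E s y z) : E s x y ↔ E s x z :=
  ⟨fun h1 => P.trans h1 h, fun h1 => P.trans h1 (P.symm h)⟩

/-- a point differing from `x` in the component `s` only -/
theorem exists_line (x y : X) (s : ι) : ∃ z, (∀ t, t ≠ s → E t z x) ∧ ¬ E s z x ∧ ¬ E s z y := by
  obtain ⟨a, b, h1, h2, h3⟩ := P.thick x s
  obtain ⟨w, hw1, hw2⟩ : ∃ w, ¬ E s x w ∧ ¬ E s w y := by
    by_cases ha : E s a y
    · refine ⟨b, h2, fun hb => h3 (P.trans ha (P.symm hb))⟩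
    · exact ⟨a, h1, ha⟩
  obtain ⟨z, hz, hz'⟩ := P.ex x w s
  exact ⟨z, hz', fun h => hw1 (P.trans (P.symm h) hz), fun h => hw2 (P.trans (P.symm hz) h)⟩

section Trans

variable {τ : MulAut H} {θ : Equiv.Perm X} (hθ : ∀ (h : H) (x : X), θ (h • x) = τ h • θ x) {σ : ι → ι}
  (hσ : ∀ s x y, E s x y ↔ E (σ s) (θ x) (θ y))
  (hprim : ∀ T : Set ι, T.Nonempty → (∀ s ∈ T, σ s ∈ T) → T = Set.univ)
  {V : Subgroup H} (hVn : ∀ h : H, ∀ v ∈ V, h * v * h⁻¹ ∈ V) (hVτ : ∀ v ∈ V, τ v ∈ V)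
  (hV1 : ∃ v ∈ V, ∃ x : X, v • x ≠ x)

include hθ hσ hprim hVn hVτ hV1

/-- `V` moves a point in the component `s` only -/
theorem exists_move (s : ι) : ∃ x : X, ∃ v ∈ V, (∀ t, t ≠ s → E t x (v • x)) ∧ ¬ E s x (v • x) := by
  have hT : {s | ∃ v ∈ V, ∃ x : X, ¬ E s x (v • x)} = Set.univ := by
    apply hprim
    · obtain ⟨v, hv, x, hx⟩ := hV1
      by_contra hcon
      rw [Set.not_nonempty_iff_eq_empty, Set.eq_empty_iff_forall_notMem] at hcon
      apply hx
      refine (P.eq fun s => ?_).symm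
      by_contra hs
      exact hcon s ⟨v, hv, x, hs⟩
    · rintro s ⟨v, hv, x, hx⟩
      refine ⟨τ v, hVτ v hv, θ x, fun h => hx ?_⟩
      rw [hσ, hθ]
      exact h
  obtain ⟨v, hv, x0, hx0⟩ : s ∈ {s | ∃ v ∈ V, ∃ x : X, ¬ E s x (v • x)} := by rw [hT]; trivial
  obtain ⟨x2, h1, h2, h3⟩ := P.exists_line (v • x0) x0 s
  obtain ⟨h, ha, hb⟩ := P.tr (x := x0) (y := v • x0) (x' := x0) (y' := x2) (fun t => by
    by_cases ht : t = s
    · subst ht
      exact ⟨fun h => absurd h hx0, fun h => absurd (P.symm h) h3⟩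
    · exact P.congr_right (P.symm (h1 t ht)))
  have hb' : h • v • h⁻¹ • x0 = x2 := by
    have : h⁻¹ • x0 = x0 := by rw [inv_smul_eq_iff, ha]
    rw [this, hb]
  have e : (v⁻¹ * (h * v * h⁻¹)) • x0 = v⁻¹ • x2 := by
    rw [mul_smul, mul_smul, mul_smul, hb']
  refine ⟨x0, v⁻¹ * (h * v * h⁻¹), mul_mem (inv_mem hv) (hVn h v hv), fun t ht => ?_, fun h4 => ?_⟩
  · rw [e, ← P.act_iff v, smul_inv_smul]
    exact P.symm (h1 t ht)
  · rw [e, ← P.act_iff v, smul_inv_smul] at h4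
    exact h2 (P.symm h4)

/-- transitivity on the lines -/
theorem trans_line {s : ι} {x y : X} (hxy : ∀ t, t ≠ s → E t x y) : ∃ v ∈ V, v • x = y := by
  by_cases hs : E s x y
  · refine ⟨1, one_mem _, ?_⟩
    rw [one_smul]
    refine P.eq fun t => ?_
    by_cases ht : t = s
    · rw [ht]; exact hs
    · exact hxy t ht
  · obtain ⟨x0, v, hv, h1, h2⟩ := P.exists_move hθ hσ hprim hVn hVτ hV1 s
    obtain ⟨h, ha, hb⟩ := P.tr (x := x0) (y := v • x0) (x' := x) (y' := y) (fun t => by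
      by_cases ht : t = s
      · subst ht
        exact ⟨fun h => absurd h h2, fun h => absurd h hs⟩
      · exact ⟨fun _ => hxy t ht, fun _ => h1 t ht⟩)
    refine ⟨h * v * h⁻¹, hVn h v hv, ?_⟩
    rw [← ha, mul_smul, mul_smul, inv_smul_smul, hb]

/-- transitivity of `V` -/
theorem trans_all [Finite ι] (x y : X) : ∃ v ∈ V, v • x = y := by
  classical
  cases nonempty_fintype ι
  have key : ∀ D : Finset ι, ∀ x y : X, (∀ s, s ∉ D → E s x y) → ∃ v ∈ V, v • x = y := by
    intro D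
    induction D using Finset.induction_on with
    | empty => exact fun x y h => ⟨1, one_mem _, by rw [one_smul]; exact P.eq fun s => h s (Finset.notMem_empty s)⟩
    | insert s D hs ih =>
      intro x y h
      obtain ⟨z, hz, hz'⟩ := P.ex x y s
      obtain ⟨v, hv, hv'⟩ := P.trans_line hθ hσ hprim hVn hVτ hV1 (fun t ht => P.symm (hz' t ht))
      obtain ⟨w, hw, hw'⟩ := ih z y (fun t ht => by
        by_cases hts : t = s
        · rw [hts]; exact hz
        · exact P.trans (hz' t hts) (h t (by simp [hts, ht])))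
      exact ⟨w * v, mul_mem hw hv, by rw [mul_smul, hv', hw']⟩
  exact key Finset.univ x y fun s hs => absurd (Finset.mem_univ s) hs

end Trans

section Ab

variable {V : Subgroup H} (htr : ∀ x y : X, ∃ v ∈ V, v • x = y) (hab : ∀ v ∈ V, ∀ w ∈ V, ∀ x : X, v • w • x = w • v • x)

include htr hab

theorem E_all {v : H} (hv : v ∈ V) {s : ι} {x : X} (h : E s x (v • x)) (y : X) : E s y (v • y) := by
  obtain ⟨u, hu, rfl⟩ := htr x y
  rw [hab v hv u hu]
  exact P.act u h

omit P in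
theorem eq_all {v w : H} (hv : v ∈ V) (hw : w ∈ V) {x : X} (h : v • x = w • x) (y : X) : v • y = w • y := by
  obtain ⟨u, hu, rfl⟩ := htr x y
  rw [hab v hv u hu, hab w hw u hu, h]

variable {τ : MulAut H} {θ : Equiv.Perm X} (hθ : ∀ (h : H) (x : X), θ (h • x) = τ h • θ x) {σ : ι → ι}
  (hσ : ∀ s x y, E s x y ↔ E (σ s) (θ x) (θ y))
  (hprim : ∀ T : Set ι, T.Nonempty → (∀ s ∈ T, σ s ∈ T) → T = Set.univ) (hVτ : ∀ v ∈ V, τ v ∈ V)

include hθ hσ in
theorem E_τ {v : H} (_hv : v ∈ V) (hv' : τ v ∈ V) {s : ι} (x : X) : E (σ s) x (τ v • x) ↔ E s x (v • x) := by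
  constructor
  · intro h
    have h1 := P.E_all htr hab hv' h (θ x)
    rw [← hθ, ← hσ] at h1
    exact h1
  · intro h
    rw [hσ, hθ] at h
    exact P.E_all htr hab hv' h x

/-- **The case of a moved component.** -/
theorem exists_all [Finite ι] (hθ : ∀ (h : H) (x : X), θ (h • x) = τ h • θ x) (hσ : ∀ s x y, E s x y ↔ E (σ s) (θ x) (θ y))
    (hσb : Function.Bijective σ) (hVτ : ∀ v ∈ V, τ v ∈ V) (hne : ∀ s, σ s ≠ s) (o : X) :
    ∃ v ∈ V, ∀ s, ¬ E s o ((v⁻¹ * τ v) • o) := by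
  classical
  cases nonempty_fintype ι
  -- the support
  let D : H → Finset ι := fun v => Finset.univ.filter fun s => ¬ E s o ((v⁻¹ * τ v) • o)
  have hD : ∀ v s, s ∈ D v ↔ ¬ E s o ((v⁻¹ * τ v) • o) := fun v s => by simp [D]
  have hbdd : ∀ n, (∃ v ∈ V, (D v).card = n) → n ≤ Fintype.card ι := by
    rintro n ⟨v, -, rfl⟩
    exact Finset.card_le_univ _
  obtain ⟨v, hv, hmax⟩ : ∃ v ∈ V, ∀ w ∈ V, (D w).card ≤ (D v).card := by
    obtain ⟨n, hn⟩ : ∃ n, n = Nat.findGreatest (fun n => ∃ v ∈ V, (D v).card = n) (Fintype.card ι) := ⟨_, rfl⟩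
    have h1 : ∃ v ∈ V, (D v).card = n := by
      rw [hn]
      exact Nat.findGreatest_spec (P := fun n => ∃ v ∈ V, (D v).card = n) (hbdd _ ⟨1, one_mem _, rfl⟩)
        ⟨1, one_mem _, rfl⟩
    obtain ⟨v, hv, hvn⟩ := h1
    refine ⟨v, hv, fun w hw => ?_⟩
    rw [hvn, hn]
    exact Nat.le_findGreatest (P := fun n => ∃ v ∈ V, (D v).card = n) (hbdd _ ⟨w, hw, rfl⟩) ⟨w, hw, rfl⟩
  refine ⟨v, hv, fun s => ?_⟩
  by_contra hs
  have hs : E s o ((v⁻¹ * τ v) • o) := by simpa using hs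
  set d := v⁻¹ * τ v with hd
  have hdV : d ∈ V := mul_mem (inv_mem hv) (hVτ v hv)
  -- two candidates
  obtain ⟨z1, a1, b1, -⟩ := P.exists_line o o s
  obtain ⟨z2, a2, b2, c2⟩ := P.exists_line o z1 s
  obtain ⟨x1, hx1, e1⟩ := htr o z1
  obtain ⟨x2, hx2, e2⟩ := htr o z2
  -- the new element
  have hnew : ∀ x ∈ V, ∀ y : X, ((v * x)⁻¹ * τ (v * x)) • y = x⁻¹ • τ x • d • y := by
    intro x hx y
    have h1 : (v * x)⁻¹ * τ (v * x) = x⁻¹ * (d * τ x) := by rw [map_mul, hd]; group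
    rw [h1, mul_smul, mul_smul, hab d hdV _ (hVτ x hx)]
  have hkey : ∀ x ∈ V, (∀ t, t ≠ s → E t o (x • o)) → ¬ E s o (x • o) → E (σ s) o (τ x • d • o) := by
    intro x hx h1 h2
    by_contra h3
    -- the components of `τ x`
    have h5 : ∀ t, t ≠ σ s → ∀ y, E t y (τ x • y) := by
      intro t ht y
      obtain ⟨t', rfl⟩ := hσb.2 t
      exact P.E_all htr hab (hVτ x hx) ((P.E_τ htr hab hθ hσ hx (hVτ x hx) o).2 (h1 t' fun h => ht (by rw [h]))) y
    have hins : ∀ t, t = s ∨ t ∈ D v → t ∈ D (v * x) := by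
      intro t ht
      rw [hD, hnew x hx, ← P.act_iff x, smul_inv_smul]
      rcases ht with rfl | ht
      · -- the component `s`
        intro h
        apply h2
        have h6 := h5 t (fun h => hne t h.symm) (d • o)
        exact P.symm (P.trans h (P.symm (P.trans hs h6)))
      · by_cases hts : t = s
        · exact absurd hs (by rw [← hts]; exact (hD v t).1 ht)
        · intro h
          have h7 : E t o (τ x • d • o) := P.trans (h1 t hts) h
          by_cases htσ : t = σ s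
          · rw [htσ] at h7
            exact h3 h7
          · exact (hD v t).1 ht (P.trans h7 (P.symm (h5 t htσ _)))
    have hlt : (D v).card < (D (v * x)).card := by
      apply Finset.card_lt_card
      rw [Finset.ssubset_iff_of_subset (fun t ht => hins t (Or.inr ht))]
      exact ⟨s, hins s (Or.inl rfl), fun h => (hD v s).1 h hs⟩
    exact absurd (hmax (v * x) (mul_mem hv hx)) (by omega)
  have k1 := hkey x1 hx1 (fun t ht => by rw [e1]; exact P.symm (a1 t ht)) (by rw [e1]; exact fun h => b1 (P.symm h))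
  have k2 := hkey x2 hx2 (fun t ht => by rw [e2]; exact P.symm (a2 t ht)) (by rw [e2]; exact fun h => b2 (P.symm h))
  have k3 : E (σ s) (τ x1 • d • o) (τ x2 • d • o) := P.trans (P.symm k1) k2
  have hx12 : x1⁻¹ * x2 ∈ V := mul_mem (inv_mem hx1) hx2
  have k4 : E (σ s) (d • o) (τ (x1⁻¹ * x2) • d • o) := by
    rw [map_mul, map_inv, mul_smul (τ x1)⁻¹ (τ x2) (d • o), ← P.act_iff (τ x1), smul_inv_smul]
    exact k3
  have k5 := (P.E_τ htr hab hθ hσ hx12 (hVτ _ hx12) (d • o)).1 k4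
  have k6 := P.E_all htr hab hx12 k5 o
  rw [mul_smul, e2, ← P.act_iff x1, smul_inv_smul, e1] at k6
  exact c2 (P.symm k6)

end Ab

/-- **The fixed point.** -/
theorem exists_fixed [Finite H] [Finite ι] {τ : MulAut H} (hccp : CCP τ) {θ : Equiv.Perm X} {σ : ι → ι}
    (hθ : ∀ (h : H) (x : X), θ (h • x) = τ h • θ x) (hσ : ∀ s x y, E s x y ↔ E (σ s) (θ x) (θ y))
    (hσb : Function.Bijective σ) (hprim : ∀ T : Set ι, T.Nonempty → (∀ s ∈ T, σ s ∈ T) → T = Set.univ)
    {K : Subgroup H} (hKn : ∀ h : H, ∀ k ∈ K, h * k * h⁻¹ ∈ K) (hKτ : ∀ k ∈ K, τ k ∈ K)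
    (hKs : Group.IsSolvable K) (hK1 : ∃ k ∈ K, ∃ x : X, k • x ≠ x) (x0 : X) : ∃ x, θ x = x := by
  obtain ⟨V, hVn, hVτ, hV1, hab⟩ := exists_V H X hKn hKτ hKs hK1
  have htr := P.trans_all hθ hσ hprim hVn hVτ hV1
  -- the base point
  obtain ⟨u, hu, hu'⟩ := htr x0 (θ x0)
  obtain ⟨c, g, hcc, hcg⟩ := hccp.res V hVτ ⟨u, hu⟩
  obtain ⟨c, hcV⟩ := c
  obtain ⟨g, hgV⟩ := g
  have hc : τ c = c := congrArg Subtype.val hcc
  have hcg : u = c * (g⁻¹ * τ g) := congrArg Subtype.val hcg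
  obtain ⟨o, ho⟩ : ∃ o, o = g⁻¹ • x0 := ⟨_, rfl⟩
  have hθo : θ o = c • o := by
    have h1 : (τ g)⁻¹ * u = (τ g)⁻¹ * (c * g⁻¹) * τ g := by rw [hcg]; group
    rw [ho, hθ, ← hu', map_inv, ← mul_smul, h1, mul_smul, mul_smul, hab _ (inv_mem (hVτ g hgV)) _ (mul_mem hcV (inv_mem hgV)),
      inv_smul_smul, mul_smul]
  by_cases hall : ∀ s, ¬ E s o (c • o)
  swap
  · -- the type of `c` is empty
    push Not at hall
    have h1 : {s | E s o (c • o)} = Set.univ := by
      apply hprim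
      · exact hall
      · intro s hs
        have := (P.E_τ htr hab hθ hσ hcV (hVτ c hcV) o).2 hs
        rw [hc] at this
        exact this
    refine ⟨o, ?_⟩
    rw [hθo]
    refine (P.eq fun s => ?_).symm
    have : s ∈ {s | E s o (c • o)} := by rw [h1]; trivial
    exact this
  exfalso
  have hι : ∃ s : ι, True := by
    by_contra hcon
    push Not at hcon
    obtain ⟨v, -, x, hx⟩ := hV1
    exact hx (P.eq fun s => (hcon s).elim)
  -- the kernel
  let Q : Subgroup H := (MulAction.toPermHom H X).ker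
  have hQ : ∀ h, h ∈ Q ↔ ∀ x : X, h • x = x := by
    intro h
    rw [MonoidHom.mem_ker, Equiv.ext_iff]
    rfl
  have hQτ : ∀ x ∈ Q, τ x ∈ Q := by
    intro h hh
    rw [hQ] at hh ⊢
    intro x
    have h1 := hθ h (θ.symm x)
    rw [hh, Equiv.apply_symm_apply] at h1
    exact h1.symm
  have hQn : ∀ x ∈ (⊤ : Subgroup H), ∀ y ∈ Q, x * y * x⁻¹ ∈ Q := fun x _ y hy =>
    (inferInstance : (MulAction.toPermHom H X).ker.Normal).conj_mem y hy x
  have hcQ : c ∉ Q := by
    obtain ⟨s, -⟩ := hι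
    intro h
    apply hall s
    rw [(hQ c).1 h]
    exact P.refl s o
  -- no element of type `univ`
  have hno : ∀ v ∈ V, ¬ ∀ s, ¬ E s o ((v⁻¹ * τ v) • o) := by
    intro v hv hd
    obtain ⟨h, h1, h2⟩ := P.tr (x := o) (y := c • o) (x' := o) (y' := (v⁻¹ * τ v) • o)
      (fun s => ⟨fun h => absurd h (hall s), fun h => absurd h (hd s)⟩)
    apply hcQ
    refine f1 hccp (H := ⊤) (fun x hx => trivial) hQτ hQn trivial (g := v) (k := h⁻¹) trivial trivial ?_ ?_
    · rw [hc, inv_mul_cancel]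
      exact one_mem _
    · have hdV : h⁻¹ * (v⁻¹ * τ v) * h⁻¹⁻¹ ∈ V := hVn h⁻¹ _ (mul_mem (inv_mem hv) (hVτ v hv))
      rw [hQ]
      intro x
      have h3 : (h⁻¹ * (v⁻¹ * τ v) * h⁻¹⁻¹) • o = c • o := by
        rw [inv_inv, mul_smul, mul_smul, h1, inv_smul_eq_iff, ← h2]
      rw [mul_smul, inv_smul_eq_iff]
      exact eq_all htr hab hdV hcV h3 x
  by_cases hfix : ∀ s, σ s ≠ s
  · obtain ⟨v, hv, hv'⟩ := P.exists_all htr hab hθ hσ hσb hVτ hfix o
    exact hno v hv hv'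
  -- one component
  push Not at hfix
  obtain ⟨s, hs⟩ := hfix
  have hι1 : ∀ t, t = s := by
    intro t
    have h1 := hprim {s} ⟨s, rfl⟩ (by rintro _ rfl; exact hs)
    have : t ∈ ({s} : Set ι) := by rw [h1]; trivial
    exact this
  have hq : ∀ v ∈ V, ∀ x : X, τ v • x = v • x := by
    intro v hv
    have h1 : (v⁻¹ * τ v) • o = (1 : H) • o := by
      rw [one_smul]
      refine (P.eq fun t => ?_).symm
      by_contra h
      refine hno v hv fun t' => ?_
      rw [hι1 t', ← hι1 t]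
      exact h
    intro x
    have h2 := eq_all htr hab (mul_mem (inv_mem hv) (hVτ v hv)) (one_mem V) h1 x
    rw [one_smul, mul_smul, inv_smul_eq_iff] at h2
    exact h2
  have hθc : ∀ x, θ x = c • x := by
    intro x
    obtain ⟨v, hv, rfl⟩ := htr o x
    rw [hθ, hθo, hq v hv, hab v hv c hcV]
  have hfixc : ∀ h : H, h • o = o → h • c • o = c • o := by
    intro h ho'
    have h1 : ∀ x : X, (h⁻¹ * τ h) • x = (h⁻¹ * c * h⁻¹⁻¹ * c⁻¹) • x := by
      intro x
      have h2 := hθ h (c⁻¹ • x)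
      rw [hθc, hθc, smul_inv_smul] at h2
      rw [mul_smul, ← h2, inv_inv]
      simp only [mul_smul]
    have hdV : h⁻¹ * c * h⁻¹⁻¹ * c⁻¹ ∈ V := mul_mem (hVn _ _ hcV) (inv_mem hcV)
    have h3 : (h⁻¹ * τ h)⁻¹ * (h⁻¹ * c * h⁻¹⁻¹ * c⁻¹) ∈ Q := by
      rw [hQ]
      intro x
      rw [mul_smul, inv_smul_eq_iff, h1]
    have h4 : (h⁻¹ * τ h) ∈ Q := by
      refine f1 hccp (H := ⊤) (fun x hx => trivial) hQτ hQn trivial (g := h) (k := 1) trivial trivial ?_ ?_
      · rw [hQ]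
        intro x
        rw [mul_smul, inv_smul_eq_iff, h1, ← hq _ hdV]
        have h5 := (hQ _).1 (hQτ _ h3)
        rw [map_mul, map_inv] at h5
        have h6 := h5 x
        rw [mul_smul, inv_smul_eq_iff] at h6
        exact h6.symm
      · rw [one_mul, inv_one, mul_one, inv_mul_cancel]
        exact one_mem _
    have h5 := (hQ _).1 h4 (c • o)
    rw [h1, mul_smul, inv_smul_smul, inv_inv, mul_smul, mul_smul, ho', inv_smul_eq_iff] at h5
    exact h5.symm
  obtain ⟨z, -, hz1, hz2⟩ := P.exists_line o (c • o) s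
  obtain ⟨h, h1, h2⟩ := P.tr (x := o) (y := c • o) (x' := o) (y' := z)
    (fun t => ⟨fun h => absurd h (hall t), fun h => absurd (P.symm h) (by rw [hι1 t]; exact hz1)⟩)
  rw [hfixc h h1] at h2
  apply hz2
  rw [h2]
  exact P.refl s _

end PS

end Cfsg.Agent.H289.Ccp
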